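import Cfsg.Agent.H58.Mon.FiveB
import Cfsg.Agent.H849.TM.Defs
import Cfsg.Agent.H8.Ore.JBound

/-!
# S4173 / S2464, row M: elements with a power of class `5B` (helper573)

* `exists_hom` : `D → A` with kernel `N ⟨z⟩`, for the data `Rad p z x N f`;
* `fb_le` : if a power `w` of `g` is in `FB 5` (`5B`), then `g ∈ ⟨w⟩`, or `g` has even order, or `|C(g)| ≤ 5 ^ 7 · 2 · 3600`.
-/

set_option autoImplicit false
set_option maxRecDepth 100000

namespace Cfsg.Agent.H573.TC.FiveB

open Cfsg Cfsg.Agent.MonsterX Cfsg.Agent.MonsterX.InstData Cfsg.Agent.MonsterX.MainPack Cfsg.Agent.MonsterU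
open Cfsg.Agent.MonsterP Cfsg.Agent.MonsterN Cfsg.Agent.LThreeMB
open Cfsg.Agent.MonsterX.MainBasic Cfsg.Agent.MonsterX.MainSimple Cfsg.Agent.MonsterX.Model
open Cfsg.Agent.MonsterU.Lam2 Cfsg.Agent.MonsterU.TwoCls
open Cfsg.Agent.BpSpor.MBigModel Cfsg.Agent.H199.NSmMon
open Cfsg.Agent.H498.Ab Cfsg.Agent.H199.AbTool Cfsg.Agent.H199.AbRad
open Cfsg.Spor (Co1)
open Subgroup (centralizer zpowers mem_centralizer_singleton_iff)

section abs

universe u v

variable {D : Type u} [Group D] {p : ℕ} {z x : D} {N : Subgroup D} {A : Type v} [Group A]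
  {f : ↥(centralizer ({z} : Set D)) →* A}

/-- the homomorphism onto the simple section -/
theorem exists_hom [Finite D] [hp : Fact p.Prime] [hA : IsSimpleGroup A] (hAc : ¬ Group.IsSolvable A) (h : BpSpor.M5.Rad p z x N f) :
    ∃ F : D →* A, Function.Surjective F ∧ (∀ n ∈ N, F n = 1) ∧ (∀ c : ↥(centralizer ({z} : Set D)), F c = f c) := by
  have hN := h.nN
  let α : ↥(centralizer ({z} : Set D)) →* D ⧸ N := (QuotientGroup.mk' N).comp (centralizer ({z} : Set D)).subtype
  have hα : Function.Surjective α := by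
    intro y
    obtain ⟨g, rfl⟩ := QuotientGroup.mk'_surjective N y
    obtain ⟨n, hn, c, hc, rfl⟩ := h.sup g
    refine ⟨⟨c, mem_centralizer_singleton_iff.2 hc⟩, ?_⟩
    show QuotientGroup.mk' N c = QuotientGroup.mk' N (n * c)
    rw [map_mul, show QuotientGroup.mk' N n = 1 from (QuotientGroup.eq_one_iff _).2 hn, one_mul]
  have hle : ∀ c, α c = 1 → f c = 1 := by
    intro c hc
    have h1 : (c : D) ∈ N := (QuotientGroup.eq_one_iff _).1 hc
    obtain ⟨i, hi⟩ := Subgroup.mem_zpowers_iff.1 (h.cN c h1 (mem_centralizer_singleton_iff.1 c.2))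
    refine h.f_central hAc fun g => Subtype.ext ?_
    show (g : D) * c = c * g
    rw [← hi]
    exact h.xzc i g
  obtain ⟨ρ, hρ⟩ := LThreeMB.exists_fac α hα f (fun a ha => hle a ha)
  refine ⟨ρ.comp (QuotientGroup.mk' N), ?_, ?_, ?_⟩
  · intro s
    obtain ⟨c, rfl⟩ := h.surj s
    exact ⟨(c : D), hρ c⟩
  · intro n hn
    show ρ (QuotientGroup.mk' N n) = 1
    rw [show QuotientGroup.mk' N n = 1 from (QuotientGroup.eq_one_iff _).2 hn, map_one]
  · intro c
    exact hρ c

/-- elements of the kernel -/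
theorem mem_ker (h : BpSpor.M5.Rad p z x N f) {F : D →* A} (hFN : ∀ n ∈ N, F n = 1)
    (hF : ∀ c : ↥(centralizer ({z} : Set D)), F c = f c) {g : D} (hg : F g = 1) :
    g ∈ N ∨ ∃ n ∈ N, g = n * z := by
  obtain ⟨n, hn, c, hc, rfl⟩ := h.sup g
  have h1 : f ⟨c, mem_centralizer_singleton_iff.2 hc⟩ = 1 := by
    rw [← hF, ← hg, map_mul, hFN n hn, one_mul]
  obtain ⟨i, hi | hi⟩ := h.ker _ h1
  · left
    have hi' : c = x ^ i := hi
    rw [hi']
    exact N.mul_mem hn (N.zpow_mem h.xN i)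
  · right
    have hi' : c = x ^ i * z := hi
    refine ⟨n * x ^ i, N.mul_mem hn (N.zpow_mem h.xN i), ?_⟩
    rw [hi', mul_assoc]

/-- the order of the kernel -/
theorem card_ker_le [Finite D] (h : BpSpor.M5.Rad p z x N f) {F : D →* A} (hFN : ∀ n ∈ N, F n = 1)
    (hF : ∀ c : ↥(centralizer ({z} : Set D)), F c = f c) : Nat.card ↥F.ker ≤ Nat.card ↥N * 2 := by
  let φ : ↥N × Fin 2 → D := fun a => (a.1 : D) * z ^ (a.2 : ℕ)
  have h1 : (F.ker : Set D) ⊆ Set.range φ := by
    intro g hg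
    rcases mem_ker h hFN hF (MonoidHom.mem_ker.1 hg) with h2 | ⟨n, hn, h2⟩
    · exact ⟨(⟨g, h2⟩, 0), by simp [φ]⟩
    · exact ⟨(⟨n, hn⟩, 1), by simp [φ, h2]⟩
  have h2 : Nat.card ↥F.ker ≤ Nat.card (Set.range φ) :=
    Nat.card_mono (Set.toFinite _) h1
  refine h2.trans ((Finite.card_range_le φ).trans ?_)
  rw [Nat.card_prod, Nat.card_fin]

/-- the centralizer of an element outside the kernel -/
theorem card_cent_le [Finite D] {F : D →* A} {g : D} {k m : ℕ} (hk : Nat.card ↥F.ker ≤ k) [Finite A]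
    (hm : Nat.card ↥(centralizer ({F g} : Set A)) ≤ m) : Nat.card ↥(centralizer ({g} : Set D)) ≤ k * m := by
  let q : ↥(centralizer ({g} : Set D)) →* ↥(centralizer ({F g} : Set A)) :=
    { toFun := fun c => ⟨F c, mem_centralizer_singleton_iff.2 (by
        have := mem_centralizer_singleton_iff.1 c.2
        rw [← map_mul, this, map_mul])⟩
      map_one' := Subtype.ext (by simp)
      map_mul' := fun a b => Subtype.ext (by simp) }
  have h1 : Nat.card ↥q.ker ≤ k := by
    refine le_trans ?_ hk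
    let j : ↥q.ker → ↥F.ker := fun c => ⟨((c : ↥(centralizer ({g} : Set D))) : D), MonoidHom.mem_ker.2 (by
      have h2 := MonoidHom.mem_ker.1 c.2
      exact congrArg Subtype.val h2)⟩
    refine Nat.card_le_card_of_injective j ?_
    intro a b hab
    have h3 : ((a : ↥(centralizer ({g} : Set D))) : D) = ((b : ↥(centralizer ({g} : Set D))) : D) :=
      congrArg (fun t : ↥F.ker => (t : D)) hab
    exact Subtype.ext (Subtype.ext h3)
  have h2 : Nat.card ↥(centralizer ({g} : Set D)) = Nat.card ↥q.range * Nat.card ↥q.ker := by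
    rw [Subgroup.card_eq_card_quotient_mul_card_subgroup q.ker,
      Nat.card_congr (QuotientGroup.quotientKerEquivRange q).toEquiv]
  have h3 : Nat.card ↥q.range ≤ m :=
    (Nat.card_le_card_of_injective _ (Subgroup.subtype_injective q.range)).trans hm
  rw [h2, mul_comm k m]
  exact Nat.mul_le_mul h3 h1

/-- elements of odd order of the kernel with a power `x` -/
theorem mem_zpowers_of_ker [Finite D] [hp : Fact p.Prime] (hp2 : p ≠ 2) (h : BpSpor.M5.Rad p z x N f) (hN : IsPGroup p ↥N)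
    {F : D →* A} (hFN : ∀ n ∈ N, F n = 1) (hF : ∀ c : ↥(centralizer ({z} : Set D)), F c = f c) {g : D}
    (hg : F g = 1) (ho : Odd (orderOf g)) (hx : x ∈ zpowers g) : g ∈ zpowers x := by
  have hNn := h.nN
  have hzi := h.zinv
  rcases mem_ker h hFN hF hg with hgN | ⟨n, hn, rfl⟩
  · -- `g ∈ N`
    obtain ⟨k, hk⟩ := Subgroup.mem_zpowers_iff.1 hx
    obtain ⟨i, hi⟩ := h.inv hp2 hgN
    -- `x = x⁻¹ x ^ (i k)`
    have h1 : x = (g⁻¹ * x ^ i) ^ k := by
      rw [← hi, conj_zpow, hk]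
      have h2 : z * x = x * z := h.xc z
      rw [h2, mul_inv_cancel_right]
    have hc : Commute g⁻¹ (x ^ i) := h.xzc i g⁻¹
    rw [hc.mul_zpow, inv_zpow, hk, ← zpow_mul] at h1
    have h3 : x ^ (i * k) = x * x := by
      have h4 : x * x = x * (x⁻¹ * x ^ (i * k)) := by rw [← h1]
      rw [h4, mul_inv_cancel_left]
    -- `p` does not divide `k`
    have hpk : ¬ (p : ℤ) ∣ k := by
      intro hd
      obtain ⟨l, rfl⟩ := hd
      have h5 : x ^ (i * ((p : ℤ) * l)) = 1 := by
        rw [show i * ((p : ℤ) * l) = (p : ℤ) * (i * l) by ring, zpow_mul, zpow_natCast, ← h.ox, pow_orderOf_eq_one,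
          one_zpow]
      have h6 : x ^ (1 : ℤ) * x ^ (1 : ℤ) = 1 := by rw [zpow_one, ← h3, h5]
      have h7 := h.sq_one hp2 h6
      rw [zpow_one] at h7
      have h8 := h.ox
      rw [h7, orderOf_one] at h8
      exact hp.out.one_lt.ne h8
    -- `orderOf g` is a power of `p`
    obtain ⟨a, ha⟩ := hN ⟨g, hgN⟩
    have ha' : g ^ p ^ a = 1 := congrArg Subtype.val ha
    have h9 : IsCoprime k ((p : ℤ) ^ a) := by
      refine IsCoprime.pow_right ?_
      exact ((Nat.prime_iff_prime_int.1 hp.out).coprime_iff_not_dvd.2 hpk).symm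
    obtain ⟨u, v, huv⟩ := h9
    have h10 : g = x ^ u := by
      calc g = g ^ (u * k + v * (p : ℤ) ^ a) := by rw [huv, zpow_one]
        _ = (g ^ k) ^ u * (g ^ ((p : ℤ) ^ a)) ^ v := by
            rw [zpow_add, mul_comm u k, zpow_mul, mul_comm v, zpow_mul]
        _ = x ^ u := by
            rw [hk, show g ^ ((p : ℤ) ^ a) = 1 by exact_mod_cast ha', one_zpow, mul_one]
    rw [h10]
    exact Subgroup.zpow_mem_zpowers x u
  · -- `g = n z`
    obtain ⟨i, hi⟩ := h.inv hp2 hn
    have h1 : (n * z) * (n * z) = x ^ i := by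
      calc (n * z) * (n * z) = n * (z * n * z⁻¹) * (z * z) := by group
        _ = x ^ i := by rw [hi, h.zz]; group
    obtain ⟨m, hm⟩ := ho
    have h2 : (n * z) ^ (orderOf (n * z)) = 1 := pow_orderOf_eq_one _
    have h3 : (n * z) = ((n * z) * (n * z)) ^ (-(m : ℤ)) := by
      have h4 : ((n * z) * (n * z)) ^ m * (n * z) = 1 := by
        have : (n * z) ^ (2 * m + 1) = 1 := by rw [← hm]; exact h2
        rw [pow_succ, pow_mul, pow_two] at this
        exact this
      rw [zpow_neg, zpow_natCast]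
      exact eq_inv_of_mul_eq_one_right h4
    rw [h3, h1, ← zpow_mul]
    exact Subgroup.zpow_mem_zpowers x _

end abs

/-- `C_G(g)` inside `C_G(x)`, `x ∈ ⟨g⟩` -/
theorem card_le_sub {G : Type*} [Group G] [Finite G] {g x : G} (hx : x ∈ zpowers g) (hgx : g * x = x * g) :
    Nat.card ↥(centralizer ({g} : Set G)) ≤
      Nat.card ↥(centralizer ({(⟨g, mem_centralizer_singleton_iff.2 hgx⟩ : ↥(centralizer ({x} : Set G)))} :
        Set ↥(centralizer ({x} : Set G)))) := by
  have h1 : ∀ c : ↥(centralizer ({g} : Set G)), (c : G) * x = x * c := by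
    intro c
    obtain ⟨i, rfl⟩ := Subgroup.mem_zpowers_iff.1 hx
    exact ((show Commute (c : G) g from mem_centralizer_singleton_iff.1 c.2).zpow_right i)
  refine Nat.card_le_card_of_injective
    (fun c => ⟨⟨(c : G), mem_centralizer_singleton_iff.2 (h1 c)⟩, mem_centralizer_singleton_iff.2
      (Subtype.ext (mem_centralizer_singleton_iff.1 c.2))⟩) ?_
  intro a b hab
  exact Subtype.ext (congrArg (fun t => ((t : ↥(centralizer ({x} : Set G))) : G)) (congrArg Subtype.val hab))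

set_option maxHeartbeats 1000000 in
/-- **`5B`, in `C(z)`.** -/
theorem in_le {x : centralizer ({zz} : Set MG)} (hx : orderOf x = 5) (hfr : fr (pi x) = 1) {g : MG}
    (hg : (x : MG) ∈ zpowers g) (ho : Odd (orderOf g)) :
    g ∈ zpowers (x : MG) ∨ Nat.card ↥(centralizer ({g} : Set MG)) ≤ 562500000 := by
  have := finite
  have hp : Fact (Nat.Prime 5) := ⟨Nat.prime_five⟩
  have hj := CpAutBFive.Final.hJ (pi x) (MFive.orderOf_pi chart Nat.prime_five (by decide) hx) hfr
  obtain ⟨e⟩ := id hj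
  have hs : IsSimpleGroup (XX (pi x)) := (MulEquiv.isSimpleGroup_congr e).2 Cfsg.Agent.S1620.result.1
  have hc : Nat.card (XX (pi x)) = 604800 := by
    rw [Nat.card_congr e.toEquiv, Cfsg.Agent.J2Sylow.SporSylow.card_J2]
  have hfA : Finite (XX (pi x)) := Nat.finite_of_card_ne_zero (by rw [hc]; norm_num)
  have hns : ¬ Group.IsSolvable (XX (pi x)) := not_solvable hs hc (by norm_num) (by norm_num)
  obtain ⟨N, hN⟩ := BpSpor.M5.exists_rad chart (by norm_num) hx hfr
    (fun d hd hc => MFive.isolated chart BpSpor.M5.trNe hx hfr d hd hc) hs (by rw [hc]; decide)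
  -- the order of `N`
  obtain ⟨m, hm, hcm⟩ := hN.card_N_mul hns
  have hN7 : Nat.card ↥N ∣ 5 ^ 7 := by
    have h2 := H58.MonFiveB.card_dvd hx hfr
    rw [hcm, hc] at h2
    have h3 : Nat.card ↥N ∣ 5 ^ 7 * 2 := by
      refine Nat.dvd_of_mul_dvd_mul_right (show 0 < 604800 by norm_num) ?_
      refine (Dvd.intro m (by ring)).trans (h2.trans (Dvd.intro 1 (by norm_num)))
    exact Nat.Coprime.dvd_of_dvd_mul_right hN.oN.coprime_two_right h3
  have hNp : IsPGroup 5 ↥N := by
    obtain ⟨k, -, hk⟩ := (Nat.dvd_prime_pow Nat.prime_five).1 hN7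
    exact IsPGroup.of_card hk
  obtain ⟨F, hFs, hFN, hF⟩ := exists_hom hns hN
  have hgx : g * (x : MG) = x * g := by
    obtain ⟨i, hi⟩ := Subgroup.mem_zpowers_iff.1 hg
    rw [← hi]
    exact ((Commute.refl g).zpow_right i)
  obtain ⟨gD, hgD⟩ : ∃ gD : ↥(centralizer ({(x : MG)} : Set MG)),
    gD = ⟨g, mem_centralizer_singleton_iff.2 hgx⟩ := ⟨_, rfl⟩
  have hgv : (gD : MG) = g := by rw [hgD]
  by_cases h1 : F gD = 1
  · left
    have h2 := mem_zpowers_of_ker (by norm_num) hN hNp hFN hF h1 (by rwa [← Subgroup.orderOf_coe, hgv]) (by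
      obtain ⟨i, hi⟩ := Subgroup.mem_zpowers_iff.1 hg
      refine Subgroup.mem_zpowers_iff.2 ⟨i, Subtype.ext ?_⟩
      rw [Subgroup.coe_zpow, hgv, hi]
      rfl)
    obtain ⟨i, hi⟩ := Subgroup.mem_zpowers_iff.1 h2
    refine Subgroup.mem_zpowers_iff.2 ⟨i, ?_⟩
    rw [← hgv, ← hi, Subgroup.coe_zpow]
    rfl
  · right
    have h2 := H8.Ore.JBound.cent_le_j2 hj h1
    have h3 : Nat.card ↥F.ker ≤ 5 ^ 7 * 2 :=
      (card_ker_le hN hFN hF).trans (Nat.mul_le_mul_right 2 (Nat.le_of_dvd (by norm_num) hN7))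
    have h4 := card_cent_le h3 h2
    have h5 := card_le_sub hg hgx
    rw [hgD] at h4
    exact (h5.trans h4).trans (by norm_num)

/-- **`5B`.** -/
theorem fb_le {g w : MG} (hw : H849.TM.FB 5 w) (h : w ∈ zpowers g) :
    g ∈ zpowers w ∨ Even (orderOf g) ∨ Nat.card ↥(centralizer ({g} : Set MG)) ≤ 562500000 := by
  obtain ⟨c, x, hx, hfr, rfl⟩ := hw
  rcases Nat.even_or_odd (orderOf g) with h1 | h1
  · exact Or.inr (Or.inl h1)
  obtain ⟨i, hi⟩ := Subgroup.mem_zpowers_iff.1 h
  have h2 : (x : MG) ∈ zpowers (c⁻¹ * g * c) := by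
    refine Subgroup.mem_zpowers_iff.2 ⟨i, ?_⟩
    have h3 : (c⁻¹ * g * c) ^ i = c⁻¹ * g ^ i * c := by
      have := conj_zpow (i := i) (a := c⁻¹) (b := g)
      rw [inv_inv] at this
      exact this
    rw [h3, hi]
    group
  have h3 : orderOf (c⁻¹ * g * c) = orderOf g := by
    have := MulEquiv.orderOf_eq (MulAut.conj c⁻¹) g
    rw [MulAut.conj_apply, inv_inv] at this
    exact this
  rcases in_le hx hfr h2 (by rwa [h3]) with h4 | h4
  · left
    obtain ⟨j, hj⟩ := Subgroup.mem_zpowers_iff.1 h4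
    refine Subgroup.mem_zpowers_iff.2 ⟨j, ?_⟩
    rw [conj_zpow, hj]
    group
  · right; right
    have h5 : c * (c⁻¹ * g * c) * c⁻¹ = g := by group
    exact (BpSpor.card_cent_of_conj h5).le.trans h4

end Cfsg.Agent.H573.TC.FiveB
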